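import Cfsg.Agent.H617.Pb.Defs
import Cfsg.Agent.H649.Transport
import Cfsg.Agent.S4551
import Cfsg.Agent.S0960
import Cfsg.Agent.Blocks.CyclicClasses

/-!
# S4822 (team Pb), task B7: transport of the rows, Sylow subgroups of prime order (helper583)

* `k0_congr`, `orb_map` : transport of `k0` and `orb` along isomorphisms;
* `row_congr` : transport of `Row`;
* `k0_sq` : `4 (p - 1) ≤ k₀(G)²` if `p ∥ |G|`;
* `exists_L` : `N` normal with `p ∥ |N|`, `p ∤ |A : N|`: there is `N ≤ L ≤ A` with `[A, A] ≤ L`, and `L` fixes all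
  the characters of the principal block of `N` (`L = N C_A(P)`, Alperin-Dade);
* `row_of_card_eq` : `Row p S` if `p ∥ |S|`.
-/

set_option autoImplicit false

open Cfsg

namespace Cfsg.Agent.H583.Pb

open Subgroup
open Cfsg.Agent.H617.Pb Cfsg.Agent.H649

universe u v

/-! ### transport -/

theorem k0_congr {G : Type u} {H : Type v} [Group G] [Group H] (e : G ≃* H) (M : Ideal AlgInt) : k0 M G = k0 M H := by
  unfold k0
  refine Nat.card_congr ((irrEquiv e).subtypeEquiv fun χ => ?_)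
  show χ ∈ principalBlock M G ↔ irrMap e χ ∈ principalBlock M H
  rw [← blkMap_principalBlock e, irrMap_mem_blkMap]

theorem orb_map {Γ : Type u} {Γ' : Type v} [Group Γ] [Group Γ'] (φ : Γ ≃* Γ') (M : Ideal AlgInt) (N C : Subgroup Γ) :
    orb M (N.map φ.toMonoidHom) (C.map φ.toMonoidHom) = orb M N C := by
  unfold orb
  symm
  let eN : ↥N ≃* ↥(N.map φ.toMonoidHom) := φ.subgroupMap N
  have hval : ∀ x : ↥N, ((eN x : ↥(N.map φ.toMonoidHom)) : Γ') = φ x := fun _ => rfl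
  let E : ↥(principalBlock M ↥N) ≃ ↥(principalBlock M ↥(N.map φ.toMonoidHom)) :=
    (irrEquiv eN).subtypeEquiv fun χ => by
      show χ ∈ principalBlock M ↥N ↔ irrMap eN χ ∈ principalBlock M ↥(N.map φ.toMonoidHom)
      rw [← blkMap_principalBlock eN, irrMap_mem_blkMap]
  have hE : ∀ (θ : ↥(principalBlock M ↥N)) (x : ↥N),
      ((E θ : IrrCharacter ↥(N.map φ.toMonoidHom)) : ↥(N.map φ.toMonoidHom) → ℂ) (eN x) =
        ((θ : IrrCharacter ↥N) : ↥N → ℂ) x := fun θ x => irrMap_apply' eN θ x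
  refine Nat.card_congr (Quot.congr E fun θ θ' => ?_)
  constructor
  · rintro ⟨c, hc, h⟩
    refine ⟨φ c, mem_map_of_mem _ hc, fun x y hxy => ?_⟩
    obtain ⟨x, rfl⟩ := eN.surjective x
    obtain ⟨y, rfl⟩ := eN.surjective y
    rw [hE, hE]
    refine h x y (φ.injective ?_)
    rw [hval, hval] at hxy
    rw [hxy, map_mul, map_mul, map_inv]
  · rintro ⟨_, ⟨c, hc, rfl⟩, h⟩
    refine ⟨c, hc, fun x y hxy => ?_⟩
    have h1 := h (eN x) (eN y) (by
      rw [hval, hval, hxy, map_mul, map_mul, map_inv]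
      rfl)
    rwa [hE, hE] at h1

theorem inn_map {S : Type u} {S' : Type v} [Group S] [Group S'] (e : S ≃* S') :
    (H617.Pb.Inn S).map (MulAut.congr e).toMonoidHom = H617.Pb.Inn S' := by
  have h : ∀ s : S, MulAut.congr e (MulAut.conj s) = MulAut.conj (e s) := by
    intro s
    apply MulEquiv.ext
    intro x
    change e (s * e.symm x * s⁻¹) = e s * x * (e s)⁻¹
    rw [map_mul, map_mul, map_inv, e.apply_symm_apply]
  ext a
  constructor
  · rintro ⟨_, ⟨s, rfl⟩, rfl⟩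
    exact ⟨e s, (h s).symm⟩
  · rintro ⟨s, rfl⟩
    refine ⟨MulAut.conj (e.symm s), ⟨_, rfl⟩, ?_⟩
    change MulAut.congr e (MulAut.conj (e.symm s)) = _
    rw [h, e.apply_symm_apply]

/-- B7a: transport -/
theorem row_congr {S : Type u} {S' : Type v} [Group S] [Group S'] [Finite S] {p : ℕ} (e : S ≃* S') (h : Row p S) :
    Row p S' := by
  intro M hM A' hA'
  set φ : MulAut S ≃* MulAut S' := MulAut.congr e with hφ
  have hInn : (H617.Pb.Inn S).map φ.toMonoidHom = H617.Pb.Inn S' := inn_map e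
  set A := A'.comap φ.toMonoidHom with hA
  have hAm : A.map φ.toMonoidHom = A' := map_comap_eq_self_of_surjective φ.surjective A'
  have hle : H617.Pb.Inn S ≤ A := by
    rw [hA, ← map_le_iff_le_comap, hInn]
    exact hA'.1
  have hidx : (H617.Pb.Inn S).relIndex A = (H617.Pb.Inn S').relIndex A' := by
    rw [← hInn, ← hAm]
    exact (relIndex_map_map_of_injective _ _ φ.injective).symm
  obtain ⟨h1, L, hL1, hL2, hL3, hL4⟩ := h M hM A ⟨hle, by rw [hidx]; exact hA'.2⟩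
  refine ⟨?_, L.map φ.toMonoidHom, ?_, ?_, ?_, ?_⟩
  · have h2 : k0 M ↥A = k0 M ↥A' := k0_congr ((φ.subgroupMap A).trans (MulEquiv.subgroupCongr hAm)) M
    rwa [h2] at h1
  · rw [← hInn]
    exact map_mono hL1
  · rw [← hAm]
    exact map_mono hL2
  · intro a ha b hb
    obtain ⟨a, rfl⟩ := φ.surjective a
    obtain ⟨b, rfl⟩ := φ.surjective b
    exact ⟨_, hL3 a ha b hb, by
      change φ (a * b * a⁻¹ * b⁻¹) = _
      rw [map_mul, map_mul, map_mul, map_inv, map_inv]⟩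
  · rw [← hInn, orb_map]
    exact hL4

/-! ### groups with Sylow subgroups of prime order -/

theorem card_sylow_of {G : Type u} [Group G] [Finite G] {p : ℕ} [hp : Fact p.Prime] (h1 : p ∣ Nat.card G)
    (h2 : ¬ p ^ 2 ∣ Nat.card G) : (Nat.card G).factorization p = 1 := by
  apply le_antisymm
  · by_contra hc
    exact h2 ((hp.out.pow_dvd_iff_le_factorization Nat.card_pos.ne').2 (by omega))
  · exact (hp.out.dvd_iff_one_le_factorization Nat.card_pos.ne').1 h1

theorem k0_sq {G : Type u} [Group G] [Finite G] {p : ℕ} [hp : Fact p.Prime] (hp2 : p ≠ 2) {M : Ideal AlgInt}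
    (hM : IsPModular p M) (h1 : p ∣ Nat.card G) (h2 : ¬ p ^ 2 ∣ Nat.card G) : 4 * (p - 1) ≤ k0 M G ^ 2 := by
  obtain ⟨P⟩ : Nonempty (Sylow p G) := inferInstance
  have hP : Nat.card P = p := by rw [P.card_eq_multiplicity, card_sylow_of h1 h2, pow_one]
  have h3 := (S0960.result p M hM hp2 P hP _ rfl).1
  have h4 := Cfsg.Agent.Blocks.CyclicClasses.card_cls P hP
  set e := (centralizer ((P : Subgroup G) : Set G)).relIndex (normalizer ((P : Subgroup G) : Set G)) with he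
  set x := Nat.card (Cfsg.Agent.Blocks.CyclicClasses.Cls P) with hx
  have he0 : 0 < e := by
    rw [he]
    exact Nat.pos_of_ne_zero Subgroup.index_ne_zero_of_finite
  have h5 : (p - 1) / e = x := by rw [← h4, Nat.mul_div_cancel _ he0]
  rw [h5] at h3
  change 4 * (p - 1) ≤ Nat.card (principalBlock M G) ^ 2
  rw [h3, ← h4]
  zify
  nlinarith [sq_nonneg ((e : ℤ) - (x : ℤ))]

/-- the automizer of a subgroup of prime order is abelian -/
theorem comm_mem_centralizer {Γ : Type u} [Group Γ] {p : ℕ} [hp : Fact p.Prime] {P : Subgroup Γ} (hP : Nat.card P = p)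
    {a b : Γ} (ha : a ∈ normalizer (P : Set Γ)) (hb : b ∈ normalizer (P : Set Γ)) :
    a * b * a⁻¹ * b⁻¹ ∈ centralizer (P : Set Γ) := by
  have hcyc : IsCyclic P := isCyclic_of_prime_card hP
  let φ := P.normalizerMonoidHom
  have hcomm : ∀ f g : MulAut P, f * g = g * f := by
    intro f g
    apply (IsCyclic.mulAutMulEquiv P).injective
    rw [map_mul, map_mul, mul_comm]
  have h1 : φ (⟨a, ha⟩ * ⟨b, hb⟩ * (⟨a, ha⟩ : normalizer (P : Set Γ))⁻¹ * (⟨b, hb⟩ : normalizer (P : Set Γ))⁻¹) = 1 := by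
    rw [map_mul, map_mul, map_mul, map_inv, map_inv, hcomm (φ ⟨a, ha⟩) (φ ⟨b, hb⟩), mul_inv_cancel_right, mul_inv_cancel]
  have h2 : (⟨a, ha⟩ * ⟨b, hb⟩ * (⟨a, ha⟩ : normalizer (P : Set Γ))⁻¹ * (⟨b, hb⟩ : normalizer (P : Set Γ))⁻¹ :
      normalizer (P : Set Γ)) ∈ φ.ker := h1
  rw [show φ.ker = _ from P.normalizerMonoidHom_ker] at h2
  exact h2

/-- if every character of the principal block of `N` extends to `L`, then `L` acts trivially -/
theorem orb_eq_of_extends {Γ : Type u} [Group Γ] (M : Ideal AlgInt) (N L : Subgroup Γ) [hN : N.Normal] (hNL : N ≤ L)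
    (h : ∀ θ ∈ principalBlock M ↥(N.subgroupOf L), ∃ χ : IrrCharacter ↥L, ∀ n : ↥(N.subgroupOf L),
      (χ : ↥L → ℂ) n = (θ : ↥(N.subgroupOf L) → ℂ) n) : orb M N L = k0 M ↥N := by
  unfold orb k0
  set r : ↥(principalBlock M ↥N) → ↥(principalBlock M ↥N) → Prop := fun θ θ' =>
    ∃ c ∈ L, ∀ x y : ↥N, (y : Γ) = c * x * c⁻¹ →
      ((θ' : IrrCharacter ↥N) : ↥N → ℂ) y = ((θ : IrrCharacter ↥N) : ↥N → ℂ) x with hr
  have key : ∀ θ θ' : ↥(principalBlock M ↥N), r θ θ' → θ = θ' := by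
    rintro θ θ' ⟨c, hc, hθ⟩
    let eN : ↥(N.subgroupOf L) ≃* ↥N := subgroupOfEquivOfLe hNL
    have hmem : irrMap eN.symm (θ : IrrCharacter ↥N) ∈ principalBlock M ↥(N.subgroupOf L) := by
      rw [← blkMap_principalBlock eN.symm, irrMap_mem_blkMap]
      exact θ.2
    obtain ⟨χ, hχ⟩ := h _ hmem
    have hval : ∀ (x : Γ) (hx : x ∈ N), (χ : ↥L → ℂ) ⟨x, hNL hx⟩ = ((θ : IrrCharacter ↥N) : ↥N → ℂ) ⟨x, hx⟩ := by
      intro x hx
      exact hχ ⟨⟨x, hNL hx⟩, hx⟩
    apply Subtype.ext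
    apply Subtype.ext
    funext y
    symm
    -- `y = c x c⁻¹`
    have hx : ∀ z : ↥N, (χ : ↥L → ℂ) ⟨z, hNL z.2⟩ = ((θ : IrrCharacter ↥N) : ↥N → ℂ) z := fun z => hval z z.2
    have hcy : c⁻¹ * (y : Γ) * c ∈ N := by
      have h1 := hN.conj_mem y y.2 c⁻¹
      rwa [inv_inv] at h1
    have h1 := hθ ⟨c⁻¹ * (y : Γ) * c, hcy⟩ y (by group)
    rw [h1, ← hx, ← hx]
    have h2 := Cfsg.Agent.Characters.Core.isCharacter_isClassFunction
      (Cfsg.Agent.Characters.Core.isIrr_isCharacter χ.2) (⟨c⁻¹ * (y : Γ) * c, hNL hcy⟩ : ↥L) (⟨c, hc⟩ : ↥L)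
    rw [← h2]
    refine congrArg (χ : ↥L → ℂ) (Subtype.ext ?_)
    change c * (c⁻¹ * (y : Γ) * c) * c⁻¹ = (y : Γ)
    group
  refine Nat.card_congr (Equiv.ofBijective (Quot.lift id key) ⟨?_, ?_⟩)
  · intro a b
    refine Quot.induction_on₂ a b fun a b h => ?_
    exact congrArg (Quot.mk r) h
  · intro a
    exact ⟨Quot.mk r a, rfl⟩

/-- **the subgroup `L = N C_A(P)`** -/
theorem exists_L {Γ : Type u} [Group Γ] [Finite Γ] {p : ℕ} [hp : Fact p.Prime] {M : Ideal AlgInt}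
    (hM : IsPModular p M) (N A : Subgroup Γ) [hN : N.Normal] (hNA : N ≤ A) (hidx : ¬ p ∣ N.relIndex A)
    (h1 : p ∣ Nat.card N) (h2 : ¬ p ^ 2 ∣ Nat.card N) :
    ∃ L : Subgroup Γ, N ≤ L ∧ L ≤ A ∧ (∀ a ∈ A, ∀ b ∈ A, a * b * a⁻¹ * b⁻¹ ∈ L) ∧ orb M N L = k0 M ↥N := by
  obtain ⟨Q⟩ : Nonempty (Sylow p ↥N) := inferInstance
  have hQ : Nat.card Q = p := by rw [Q.card_eq_multiplicity, card_sylow_of h1 h2, pow_one]
  set P : Subgroup Γ := (Q : Subgroup ↥N).map N.subtype with hP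
  have hPc : Nat.card P = p := by
    rw [hP, Subgroup.card_map_of_injective N.subtype_injective]
    exact hQ
  have hPN : P ≤ N := by
    rintro _ ⟨x, -, rfl⟩
    exact x.2
  have hfr : normalizer (P : Set Γ) ⊔ N = ⊤ := Sylow.normalizer_sup_eq_top Q
  have hdec : ∀ a : Γ, ∃ m ∈ normalizer (P : Set Γ), ∃ n ∈ N, m * n = a := by
    intro a
    have h3 : a ∈ normalizer (P : Set Γ) ⊔ N := hfr ▸ mem_top a
    exact mem_sup_of_normal_right.1 h3
  set L : Subgroup Γ := N ⊔ (A ⊓ centralizer (P : Set Γ)) with hL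
  have hNL : N ≤ L := le_sup_left
  have hLA : L ≤ A := sup_le hNA inf_le_left
  refine ⟨L, hNL, hLA, ?_, ?_⟩
  · intro a ha b hb
    obtain ⟨m, hm, n, hn, rfl⟩ := hdec a
    obtain ⟨m', hm', n', hn', rfl⟩ := hdec b
    have hmA : m ∈ A := by
      have h3 := A.mul_mem ha (A.inv_mem (hNA hn))
      rwa [mul_inv_cancel_right] at h3
    have hmA' : m' ∈ A := by
      have h3 := A.mul_mem hb (A.inv_mem (hNA hn'))
      rwa [mul_inv_cancel_right] at h3
    have h3 : m * m' * m⁻¹ * m'⁻¹ ∈ A ⊓ centralizer (P : Set Γ) :=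
      ⟨A.mul_mem (A.mul_mem (A.mul_mem hmA hmA') (A.inv_mem hmA)) (A.inv_mem hmA'), comm_mem_centralizer hPc hm hm'⟩
    have h4 : (m * n * (m' * n') * (m * n)⁻¹ * (m' * n')⁻¹) * (m * m' * m⁻¹ * m'⁻¹)⁻¹ ∈ N := by
      rw [← QuotientGroup.eq_one_iff (N := N)]
      have e1 : (QuotientGroup.mk n : Γ ⧸ N) = 1 := (QuotientGroup.eq_one_iff n).2 hn
      have e2 : (QuotientGroup.mk n' : Γ ⧸ N) = 1 := (QuotientGroup.eq_one_iff n').2 hn'
      simp only [QuotientGroup.mk_mul, QuotientGroup.mk_inv, e1, e2, mul_one]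
      exact mul_inv_cancel _
    have h5 := L.mul_mem (hNL h4) ((le_sup_right : A ⊓ centralizer (P : Set Γ) ≤ L) h3)
    rwa [inv_mul_cancel_right] at h5
  · apply orb_eq_of_extends M N L hNL
    have hidx' : ¬ p ∣ (N.subgroupOf L).index := by
      intro h3
      apply hidx
      rw [← Subgroup.relIndex_mul_relIndex N L A hNL hLA]
      exact h3.mul_right _
    have hcL : (Nat.card L).factorization p = 1 := by
      apply card_sylow_of
      · exact h1.trans (Subgroup.card_dvd_of_le hNL)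
      · intro h3
        have h4 : Nat.card (N.subgroupOf L) * (N.subgroupOf L).index = Nat.card L := Subgroup.card_mul_index _
        have h5 : Nat.card (N.subgroupOf L) = Nat.card N := Nat.card_congr (subgroupOfEquivOfLe hNL).toEquiv
        rw [← h4, h5] at h3
        exact h2 ((Nat.Coprime.pow_left 2 ((Nat.Prime.coprime_iff_not_dvd hp.out).2 hidx')).dvd_of_dvd_mul_right h3)
    let P' : Sylow p L := Sylow.ofCard (P.subgroupOf L) (by
      rw [hcL, pow_one, Nat.card_congr (subgroupOfEquivOfLe (hPN.trans hNL)).toEquiv, hPc])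
    have hP' : (P' : Subgroup L) = P.subgroupOf L := rfl
    have hsup : N.subgroupOf L ⊔ centralizer ((P' : Subgroup L) : Set L) = ⊤ := by
      rw [eq_top_iff]
      rintro ⟨l, hl⟩ -
      have hl' : l ∈ N ⊔ (A ⊓ centralizer (P : Set Γ)) := hl
      obtain ⟨n, hn, c, hc, rfl⟩ := mem_sup_of_normal_left.1 hl'
      have e : (⟨n * c, hl⟩ : L) = ⟨n, hNL hn⟩ * ⟨c, (le_sup_right : A ⊓ centralizer (P : Set Γ) ≤ L) hc⟩ := rfl
      rw [e]
      apply mul_mem_sup
      · exact hn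
      · rw [hP', mem_centralizer_iff]
        intro x hx
        exact Subtype.ext (mem_centralizer_iff.1 hc.2 x hx)
    intro θ hθ
    obtain ⟨χ, ⟨-, h3⟩, -⟩ := (S4551.result p M hM (N.subgroupOf L) hidx' P' hsup).2 θ hθ
    exact ⟨χ, h3⟩

/-! ### the row -/

/-- B7b: Sylow `p`-subgroups of order `p` (S0960) -/
theorem row_of_card_eq {S : Type u} [Group S] [Finite S] [hS' : IsSimpleGroup S] {p : ℕ} [hp : Fact p.Prime]
    (hS : ¬ IsMulCommutative S) (h5 : 5 ≤ p) (h1 : p ∣ Nat.card S) (h2 : ¬ p ^ 2 ∣ Nat.card S) : Row p S := by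
  intro M hM A hA
  have hp2 : p ≠ 2 := by omega
  have hfin : Finite (MulAut S) := Finite.of_injective (fun f : MulAut S => (f : S → S)) DFunLike.coe_injective
  have hN : (H617.Pb.Inn S).Normal := by
    constructor
    rintro _ ⟨s, rfl⟩ g
    refine ⟨g s, ?_⟩
    apply MulEquiv.ext
    intro x
    change g s * x * (g s)⁻¹ = g (s * g⁻¹ x * s⁻¹)
    rw [map_mul, map_mul, map_inv, MulAut.apply_inv_self]
  have hinj : Function.Injective (MulAut.conj : S →* MulAut S) := by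
    rw [← MonoidHom.ker_eq_bot_iff]
    rcases hS'.eq_bot_or_eq_top_of_normal (MulAut.conj : S →* MulAut S).ker inferInstance with h | h
    · exact h
    · exfalso
      apply hS
      refine ⟨⟨fun a b => ?_⟩⟩
      have h3 : a ∈ (MulAut.conj : S →* MulAut S).ker := h ▸ mem_top a
      have h4 := congrArg (fun f : MulAut S => f b) (MonoidHom.mem_ker.1 h3)
      change a * b * a⁻¹ = b at h4
      rw [mul_inv_eq_iff_eq_mul] at h4
      exact h4
  have hc : Nat.card (H617.Pb.Inn S) = Nat.card S :=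
    (Nat.card_congr (MonoidHom.ofInjective hinj).toEquiv).symm
  have h1' : p ∣ Nat.card (H617.Pb.Inn S) := by rw [hc]; exact h1
  have h2' : ¬ p ^ 2 ∣ Nat.card (H617.Pb.Inn S) := by rw [hc]; exact h2
  constructor
  · apply k0_sq hp2 hM
    · exact h1'.trans (Subgroup.card_dvd_of_le hA.1)
    · intro h3
      have h4 := Subgroup.card_mul_index ((H617.Pb.Inn S).subgroupOf A)
      rw [Nat.card_congr (subgroupOfEquivOfLe hA.1).toEquiv] at h4
      rw [← h4] at h3
      exact h2' ((Nat.Coprime.pow_left 2 ((Nat.Prime.coprime_iff_not_dvd hp.out).2 hA.2)).dvd_of_dvd_mul_right h3)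
  · obtain ⟨L, hL1, hL2, hL3, hL4⟩ := exists_L hM (H617.Pb.Inn S) A hA.1 hA.2 h1' h2'
    refine ⟨L, hL1, hL2, hL3, ?_⟩
    rw [hL4]
    exact k0_sq hp2 hM h1' h2'

end Cfsg.Agent.H583.Pb
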